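import Mathlib

/-!
Coordinates at a point of the closed fibre of a smooth algebra over a discrete valuation ring,
adapted to the prime of that point when its residue field is formally smooth over the residue field
of the base.
-/

set_option autoImplicit false
set_option linter.style.haveILetI false
set_option linter.unusedSimpArgs false

universe u

namespace Groth.Agent.NeronBlow

open TensorProduct IsLocalRing

/-- In a formally smooth local `R`-algebra whose residue field is formally smooth over that of `R`,
an element of the maximal ideal whose differential lies in the span of the differentials of a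
family in the maximal ideal, modulo the maximal ideal, lies in that family, `π` and the square of
the maximal ideal. -/
theorem mem_of_differential_mem {R P : Type u} [CommRing R] [IsLocalRing R] [CommRing P] [IsLocalRing P]
    [Algebra R P] [IsLocalHom (algebraMap R P)] (π : R) (hπ : maximalIdeal R = Ideal.span {π})
    [Algebra.FormallySmooth (ResidueField R) (ResidueField P)]
    (F : Set P) (hF : F ⊆ maximalIdeal P) (x : P) (hx : x ∈ maximalIdeal P)
    (h : KaehlerDifferential.D R P x ∈
      Submodule.span P (KaehlerDifferential.D R P '' F) ⊔ maximalIdeal P • (⊤ : Submodule P Ω[P⁄R])) :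
    x ∈ Ideal.span F ⊔ Ideal.span {algebraMap R P π} ⊔ maximalIdeal P ^ 2 := by
  let I : Ideal P := maximalIdeal P ^ 2 ⊔ Ideal.span {algebraMap R P π}
  have hIm : I ≤ maximalIdeal P := by
    refine sup_le (Ideal.pow_le_self two_ne_zero) ?_
    rw [Ideal.span_le, Set.singleton_subset_iff]
    have : π ∈ maximalIdeal R := hπ ▸ Ideal.mem_span_singleton_self π
    exact map_nonunit (algebraMap R P) π this
  let E := P ⧸ I
  have hk : ∀ r ∈ maximalIdeal R, algebraMap R E r = 0 := by
    intro r hr
    rw [hπ, Ideal.mem_span_singleton] at hr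
    obtain ⟨c, rfl⟩ := hr
    rw [IsScalarTower.algebraMap_apply R P E, Ideal.Quotient.algebraMap_eq, Ideal.Quotient.eq_zero_iff_mem, map_mul]
    exact Ideal.mul_mem_right _ _ (Ideal.mem_sup_right (Ideal.mem_span_singleton_self _))
  letI : Algebra (ResidueField R) E := (Ideal.Quotient.lift (maximalIdeal R) (algebraMap R E) hk).toAlgebra
  haveI : IsScalarTower R (ResidueField R) E := IsScalarTower.of_algebraMap_eq fun r => rfl
  let q0 : E →+* ResidueField P := Ideal.Quotient.lift I (residue P) fun a ha =>
    Ideal.Quotient.eq_zero_iff_mem.mpr (hIm ha)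
  have hq0 : ∀ a : P, q0 (Ideal.Quotient.mk I a) = residue P a := fun a => rfl
  let q : E →ₐ[ResidueField R] ResidueField P :=
    { q0 with
      commutes' := fun r => by
        obtain ⟨r, rfl⟩ := Ideal.Quotient.mk_surjective r
        exact rfl }
  have hq : ∀ a : P, q (Ideal.Quotient.mk I a) = residue P a := fun a => rfl
  have hqs : Function.Surjective q := fun b => by
    obtain ⟨a, rfl⟩ := Ideal.Quotient.mk_surjective b
    exact ⟨Ideal.Quotient.mk I a, rfl⟩
  let J : Ideal E := RingHom.ker (q : E →+* ResidueField P)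
  have hJ : J = (maximalIdeal P).map (Ideal.Quotient.mk I) := by
    ext e
    obtain ⟨a, rfl⟩ := Ideal.Quotient.mk_surjective e
    rw [Ideal.mem_quotient_iff_mem_sup, sup_eq_left.mpr hIm, RingHom.mem_ker]
    exact Ideal.Quotient.eq_zero_iff_mem
  have hJ2 : J ^ 2 = ⊥ := by
    rw [hJ, ← Ideal.map_pow, Ideal.map_eq_bot_iff_le_ker, Ideal.mk_ker]
    exact le_sup_left
  let σ : ResidueField P →ₐ[ResidueField R] E :=
    Algebra.FormallySmooth.liftOfSurjective (AlgHom.id _ _) q hqs ⟨2, hJ2⟩
  have hσ : ∀ a, q (σ a) = a := fun a =>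
    Algebra.FormallySmooth.liftOfSurjective_apply _ _ hqs _ a
  let f : P →ₐ[R] E := (σ.restrictScalars R).comp (IsScalarTower.toAlgHom R P (ResidueField P))
  have e : (Ideal.Quotient.mkₐ R J).comp f = IsScalarTower.toAlgHom R P (E ⧸ J) := by
    ext a
    change Ideal.Quotient.mk J (σ (residue P a)) = Ideal.Quotient.mk J (Ideal.Quotient.mk I a)
    rw [Ideal.Quotient.eq]
    change q (σ (residue P a) - Ideal.Quotient.mk I a) = 0
    rw [map_sub, hσ, hq, sub_self]
  let δ : Derivation R P J := derivationToSquareZeroOfLift J hJ2 f e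
  have hδ : ∀ a ∈ maximalIdeal P, (δ a : E) = - Ideal.Quotient.mk I a := by
    intro a ha
    rw [derivationToSquareZeroOfLift_apply]
    have : residue P a = 0 := Ideal.Quotient.eq_zero_iff_mem.mpr ha
    change σ (residue P a) - Ideal.Quotient.mk I a = _
    rw [this, map_zero, zero_sub]
  let Δ : Ω[P⁄R] →ₗ[P] E := (J.subtype.restrictScalars P).comp δ.liftKaehlerDifferential
  have hΔ : ∀ a ∈ maximalIdeal P, Δ (KaehlerDifferential.D R P a) = - Ideal.Quotient.mk I a := by
    intro a ha
    change ((δ.liftKaehlerDifferential (KaehlerDifferential.D R P a) : J) : E) = _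
    rw [Derivation.liftKaehlerDifferential_comp_D, hδ a ha]
  have hle : Submodule.span P (KaehlerDifferential.D R P '' F) ⊔ maximalIdeal P • (⊤ : Submodule P Ω[P⁄R]) ≤
      (Submodule.map (Submodule.mkQ I) (Ideal.span F)).comap Δ := by
    refine sup_le (Submodule.span_le.mpr ?_) (Submodule.smul_le.mpr fun r hr ω _ => ?_)
    · rintro _ ⟨a, ha, rfl⟩
      simp only [Submodule.comap_coe, Set.mem_preimage, SetLike.mem_coe]
      rw [hΔ a (hF ha)]
      exact neg_mem (Submodule.mem_map_of_mem (f := Submodule.mkQ I) (Ideal.subset_span ha))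
    · rw [Submodule.mem_comap, map_smul]
      have h0 : r • Δ ω = 0 := by
        have hr' : Ideal.Quotient.mk I r ∈ J := hJ ▸ Ideal.mem_map_of_mem _ hr
        have hw : Δ ω ∈ J := (δ.liftKaehlerDifferential ω).2
        have := Ideal.mul_mem_mul hr' hw
        rw [← sq, hJ2, Ideal.mem_bot] at this
        rw [Algebra.smul_def]
        exact this
      rw [h0]; exact zero_mem _
  obtain ⟨z, hz, hzx⟩ := hle h
  rw [hΔ x hx] at hzx
  have hzI : z + x ∈ I := by
    rw [← Ideal.Quotient.eq_zero_iff_mem, map_add]
    change Ideal.Quotient.mk I z = _ at hzx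
    rw [hzx, neg_add_cancel]
  have : x = (z + x) - z := by ring
  rw [this]
  refine sub_mem ?_ (Ideal.mem_sup_left (Ideal.mem_sup_left hz))
  exact (sup_le le_sup_right (le_sup_right.trans le_sup_left) : I ≤ _) hzI

/-- Coordinates adapted to a prime of the closed fibre of a smooth algebra. -/
theorem exists_coords {R A : Type u} [CommRing R] [IsLocalRing R] [IsNoetherianRing R] [CommRing A]
    [Algebra R A] [Algebra.FiniteType R A] (π : R) (hπ : maximalIdeal R = Ideal.span {π})
    (p : Ideal A) [p.IsPrime] [IsLocalHom (algebraMap R (Localization.AtPrime p))]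
    [Algebra.IsSmoothAt R p]
    [Algebra.FormallySmooth (ResidueField R) (ResidueField (Localization.AtPrime p))] :
    ∃ (ι : Type u) (y : ι → A) (s : Set ι)
      (B : Module.Basis ι (Localization.AtPrime p) Ω[Localization.AtPrime p⁄R]),
      (∀ k, B k = KaehlerDifferential.D R (Localization.AtPrime p) (algebraMap A _ (y k))) ∧
      (∀ k ∈ s, y k ∈ p) ∧
      ∀ x ∈ p, ∃ g ∉ p, g * x ∈ Ideal.span {algebraMap R A π} ⊔ Ideal.span (y '' s) := by
  classical
  haveI : IsNoetherianRing A := Algebra.FiniteType.isNoetherianRing R A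
  let P := Localization.AtPrime p
  haveI : IsNoetherianRing P := IsLocalization.isNoetherianRing p.primeCompl P inferInstance
  haveI : Algebra.EssFiniteType A P := Algebra.EssFiniteType.of_isLocalization P p.primeCompl
  haveI : Algebra.EssFiniteType R P := Algebra.EssFiniteType.comp R A P
  haveI : Module.FinitePresentation P Ω[P⁄R] := Module.finitePresentation_of_finite _ _
  haveI : Module.Flat P Ω[P⁄R] := inferInstance
  let κ := ResidueField P
  let dA : A → Ω[P⁄R] := fun a => KaehlerDifferential.D R P (algebraMap A P a)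
  let v : A → κ ⊗[P] Ω[P⁄R] := fun a => TensorProduct.mk P κ Ω[P⁄R] 1 (dA a)
  obtain ⟨b, hbp, -, hbspan, hbli⟩ :=
    exists_linearIndepOn_extension (K := κ) (v := v) (linearIndepOn_empty κ v) (Set.empty_subset (p : Set A))
  obtain ⟨b', -, hbb', hb'span, hb'li⟩ := exists_linearIndepOn_extension hbli (Set.subset_univ b)
  have hdA : Submodule.span P (Set.range dA) = ⊤ := by
    rw [← KaehlerDifferential.span_range_map_derivation_of_isLocalization R A P p.primeCompl]
    congr 1
    ext ω
    simp only [Set.mem_range, Function.comp_apply, KaehlerDifferential.map_D, dA]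
  have hspan : ⊤ ≤ Submodule.span κ (Set.range fun k : b' => v k) := by
    have h1 : Submodule.span κ (TensorProduct.mk P κ Ω[P⁄R] 1 '' Set.range dA) = ⊤ := by
      have := (IsLocalRing.map_tensorProduct_mk_eq_top (N := Submodule.span P (Set.range dA))).mpr hdA
      rw [← Submodule.span_image] at this
      rw [eq_top_iff]
      intro w _
      exact Submodule.span_le_restrictScalars P κ _ (this ▸ Submodule.mem_top)
    rw [← h1, Submodule.span_le]
    rintro _ ⟨_, ⟨a, rfl⟩, rfl⟩
    rw [show (Set.range fun k : b' => v k) = v '' b' from Set.range_comp' .. |>.trans (by rw [Subtype.range_coe])]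
    exact hb'span ⟨a, trivial, rfl⟩
  obtain ⟨B, hB⟩ := Module.exists_basis_of_basis_baseChange (fun k : b' => dA k) hb'li (top_le_iff.mp hspan)
    (Module.Flat.rTensor_preserves_injective_linearMap _ Subtype.val_injective)
  refine ⟨b', fun k => k.1, {k | k.1 ∈ b}, B, hB, fun k hk => hbp hk, ?_⟩
  have hys : (fun k : b' => k.1) '' {k | k.1 ∈ b} = b := by
    ext a
    exact ⟨fun ⟨k, hk, e⟩ => e ▸ hk, fun ha => ⟨⟨a, hbb' ha⟩, ha, rfl⟩⟩
  rw [hys]
  let F : Set P := algebraMap A P '' b
  have hF : F ⊆ maximalIdeal P := by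
    rintro _ ⟨a, ha, rfl⟩
    exact (IsLocalization.AtPrime.to_map_mem_maximal_iff P p a).mpr (hbp ha)
  have hm : maximalIdeal P ≤ Ideal.span F ⊔ Ideal.span {algebraMap R P π} ⊔ maximalIdeal P ^ 2 := by
    refine le_of_eq_of_le (Localization.AtPrime.map_eq_maximalIdeal (I := p)).symm ?_
    rw [Ideal.map_le_iff_le_comap]
    intro a ha
    refine mem_of_differential_mem π hπ F hF _ ((IsLocalization.AtPrime.to_map_mem_maximal_iff P p a).mpr ha) ?_
    have h2 : v a ∈ (Submodule.span P (KaehlerDifferential.D R P '' F)).map (TensorProduct.mk P κ Ω[P⁄R] 1) := by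
      rw [Submodule.map_span]
      have h3 := hbspan ⟨a, ha, rfl⟩
      have h4 : v a ∈ (Submodule.span κ (v '' b)).restrictScalars P := h3
      rw [Submodule.restrictScalars_span P κ Ideal.Quotient.mk_surjective] at h4
      convert h4 using 3
      simp only [F, Set.image_image, v, dA]
    obtain ⟨z, hz, hzv⟩ := h2
    have hk : dA a - z ∈ maximalIdeal P • (⊤ : Submodule P Ω[P⁄R]) := by
      rw [← LinearMap.ker_tensorProductMk (Q := Ω[P⁄R]) (I := maximalIdeal P), LinearMap.mem_ker, map_sub, sub_eq_zero]
      exact hzv.symm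
    have := Submodule.add_mem_sup hz hk
    simpa [dA] using this
  have hm' : maximalIdeal P ≤ Ideal.span F ⊔ Ideal.span {algebraMap R P π} := by
    refine Submodule.le_of_le_smul_of_le_jacobson_bot (I := maximalIdeal P) (IsNoetherian.noetherian _)
      (IsLocalRing.maximalIdeal_le_jacobson _) ?_
    rwa [smul_eq_mul, ← sq]
  intro x hx
  have hxP := hm' ((IsLocalization.AtPrime.to_map_mem_maximal_iff P p x).mpr hx)
  have heq : Ideal.span F ⊔ Ideal.span {algebraMap R P π} =
      (Ideal.span {algebraMap R A π} ⊔ Ideal.span b).map (algebraMap A P) := by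
    rw [Ideal.map_sup, Ideal.map_span, Ideal.map_span, Set.image_singleton,
      ← IsScalarTower.algebraMap_apply, sup_comm]
  rw [heq] at hxP
  obtain ⟨g, hg, hgx⟩ := (IsLocalization.algebraMap_mem_map_algebraMap_iff p.primeCompl P _ x).mp hxP
  exact ⟨g, hg, hgx⟩

end Groth.Agent.NeronBlow
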