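import Mathlib
import Groth.Prelude.Def_BlowUp2
import Groth.Agent.NeronBlow.Coord
import Groth.Agent.DvrSmooth.Basic
import Groth.Agent.S2451

/-!
Néron's blow-up of a smooth algebra over a discrete valuation ring at the centre of a point with
values in an unramified extension is smooth at the new centre.
-/

set_option autoImplicit false
set_option linter.style.haveILetI false
set_option linter.unusedSimpArgs false

universe u

namespace Groth.Agent.NeronBlow

open TensorProduct IsLocalRing

/-- A derivation into a localised target extends to the localisation of the source. -/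
theorem exists_ext_derivation {R A B L : Type u} [CommRing R] [CommRing A] [Algebra R A] [CommRing B]
    [Algebra A B] [Algebra R B] [IsScalarTower R A B] [CommRing L] [Algebra R L] (a : A)
    [IsLocalization.Away a B] (φ : B →ₐ[R] L) (d : A →ₗ[R] L)
    (hd : ∀ x y, d (x * y) = φ (algebraMap A B x) * d y + φ (algebraMap A B y) * d x) :
    ∃ e : B →ₗ[R] L, (∀ x y, e (x * y) = φ x * e y + φ y * e x) ∧ ∀ x, e (algebraMap A B x) = d x := by
  have hd1 : d 1 = 0 := by
    have := hd 1 1
    simp only [mul_one, map_one, one_mul] at this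
    exact left_eq_add.mp this
  let θ : A →+* TrivSqZeroExt L L :=
    { toFun := fun x => (φ (algebraMap A B x), d x)
      map_one' := by
        refine TrivSqZeroExt.ext ?_ ?_
        · exact (congrArg φ (map_one _)).trans (map_one φ)
        · exact hd1
      map_mul' := fun x y => by
        refine TrivSqZeroExt.ext ?_ ?_
        · exact (congrArg φ (map_mul _ _ _)).trans (map_mul φ _ _)
        · change d (x * y) = φ (algebraMap A B x) • d y + MulOpposite.op (φ (algebraMap A B y)) • d x
          rw [hd, smul_eq_mul, op_smul_eq_mul, mul_comm (d x)]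
      map_zero' := by
        refine TrivSqZeroExt.ext ?_ ?_
        · exact (congrArg φ (map_zero _)).trans (map_zero φ)
        · exact map_zero d
      map_add' := fun x y => by
        refine TrivSqZeroExt.ext ?_ ?_
        · exact (congrArg φ (map_add _ _ _)).trans (map_add φ _ _)
        · exact map_add d _ _ }
  have hu : IsUnit (θ a) := TrivSqZeroExt.isUnit_iff_isUnit_fst.mpr
    ((IsLocalization.Away.algebraMap_isUnit (S := B) a).map φ)
  let Θ : B →+* TrivSqZeroExt L L := IsLocalization.Away.lift a hu
  have hΘ : ∀ x, Θ (algebraMap A B x) = θ x := IsLocalization.Away.lift_eq a hu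
  have hfst : ∀ b, (Θ b).fst = φ b := by
    have : (TrivSqZeroExt.fstHom L L L).toRingHom.comp Θ = φ.toRingHom := by
      refine IsLocalization.ringHom_ext (Submonoid.powers a) (RingHom.ext fun x => ?_)
      change (Θ (algebraMap A B x)).fst = φ (algebraMap A B x)
      rw [hΘ]
      rfl
    exact fun b => RingHom.congr_fun this b
  refine ⟨{ toFun := fun b => (Θ b).snd, map_add' := fun x y => by simp, map_smul' := fun r x => ?_ },
    fun x y => ?_, fun x => ?_⟩
  · have hr : Θ (algebraMap R B r) = TrivSqZeroExt.inl (algebraMap R L r) := by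
      rw [IsScalarTower.algebraMap_apply R A B, hΘ]
      refine TrivSqZeroExt.ext ?_ ?_
      · change φ (algebraMap A B (algebraMap R A r)) = _
        rw [← IsScalarTower.algebraMap_apply, AlgHom.commutes]
        rfl
      · change d (algebraMap R A r) = 0
        rw [Algebra.algebraMap_eq_smul_one, map_smul, hd1, smul_zero]
    simp only [Algebra.smul_def r x, map_mul, hr, TrivSqZeroExt.snd_mul, TrivSqZeroExt.fst_inl,
      TrivSqZeroExt.snd_inl, smul_zero, add_zero, RingHom.id_apply, Algebra.smul_def r ((Θ x).snd), smul_eq_mul]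
  · change (Θ (x * y)).snd = _
    rw [map_mul, TrivSqZeroExt.snd_mul, hfst, hfst, smul_eq_mul, op_smul_eq_mul]
    simp only [LinearMap.coe_mk, AddHom.coe_mk]
    ring
  · change (Θ (algebraMap A B x)).snd = d x
    rw [hΘ]
    rfl

set_option maxHeartbeats 1000000 in
theorem isSmoothAt_neronBlowup {R Λ A : Type u} [CommRing R] [IsDomain R] [IsDiscreteValuationRing R]
    [CommRing Λ] [IsDomain Λ] [IsDiscreteValuationRing Λ] [Algebra R Λ] [NoZeroSMulDivisors R Λ]
    [IsLocalHom (algebraMap R Λ)] [Algebra.IsGeometricallyReduced (ResidueField R) (ResidueField Λ)]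
    [CommRing A] [Algebra R A] [Algebra.FiniteType R A] [Algebra A Λ] [IsScalarTower R A Λ]
    (π : R) (hπ : maximalIdeal R = Ideal.span {π})
    (hsm : Algebra.IsSmoothAt R ((maximalIdeal Λ).comap (algebraMap A Λ)))
    (φ' : BlowUp.affineAlgebra A ((maximalIdeal Λ).comap (algebraMap A Λ)) (algebraMap R A π) →ₐ[A] Λ)
    (hφ' : ∀ a' : BlowUp.affineAlgebra A ((maximalIdeal Λ).comap (algebraMap A Λ)) (algebraMap R A π),
      algebraMap Λ (Localization.Away (algebraMap A Λ (algebraMap R A π))) (φ' a') =
        Localization.awayMap (algebraMap A Λ) (algebraMap R A π) a'.val) :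
    Algebra.IsSmoothAt R ((maximalIdeal Λ).comap φ'.toRingHom) := by
  classical
  let p := (maximalIdeal Λ).comap (algebraMap A Λ)
  let a := algebraMap R A π
  let A' := BlowUp.affineAlgebra A p a
  let B := Localization.Away a
  let L := Localization.Away (algebraMap A Λ a)
  let P := Localization.AtPrime p
  haveI : IsNoetherianRing A := Algebra.FiniteType.isNoetherianRing R A
  haveI := hsm
  have hπ0 : π ≠ 0 := fun h => IsDiscreteValuationRing.not_a_field R
    (by rw [hπ, h, Ideal.span_singleton_eq_bot])
  have hπm : π ∈ maximalIdeal R := hπ ▸ Ideal.mem_span_singleton_self π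
  have hai : algebraMap A Λ a ≠ 0 := by
    rw [← IsScalarTower.algebraMap_apply]
    exact fun h => hπ0 (FaithfulSMul.algebraMap_injective R Λ (h.trans (map_zero _).symm))
  have ham : algebraMap A Λ a ∈ maximalIdeal Λ := by
    rw [← IsScalarTower.algebraMap_apply]
    exact map_nonunit (algebraMap R Λ) π hπm
  haveI : IsDomain L := IsLocalization.isDomain_localization
    (powers_le_nonZeroDivisors_of_noZeroDivisors hai)
  have hΛL : Function.Injective (algebraMap Λ L) :=
    IsLocalization.injective L (powers_le_nonZeroDivisors_of_noZeroDivisors hai)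
  -- `P → Λ` and the residue fields
  let ψ : P →ₐ[A] Λ := IsLocalization.liftAlgHom (M := p.primeCompl) (f := Algebra.ofId A Λ) fun g =>
    (IsLocalRing.notMem_maximalIdeal.mp g.2)
  letI : Algebra P Λ := ψ.toRingHom.toAlgebra
  haveI : IsScalarTower A P Λ := IsScalarTower.of_algebraMap_eq fun x => (ψ.commutes x).symm
  haveI : IsScalarTower R P Λ := IsScalarTower.of_algebraMap_eq fun x => by
    rw [IsScalarTower.algebraMap_apply R A P, ← IsScalarTower.algebraMap_apply A P Λ, ← IsScalarTower.algebraMap_apply]
  haveI : IsLocalHom (algebraMap P Λ) := ⟨fun x hx => by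
    obtain ⟨y, g, rfl⟩ := IsLocalization.exists_mk'_eq p.primeCompl x
    refine IsLocalization.AtPrime.isUnit_mk'_iff P p y g |>.mpr fun hy => ?_
    have := hx.mul ((IsLocalization.map_units P g).map (algebraMap P Λ))
    rw [← map_mul, IsLocalization.mk'_spec, ← IsScalarTower.algebraMap_apply] at this
    exact (mem_maximalIdeal _).mp hy this⟩
  haveI : IsLocalHom (algebraMap R P) := ⟨fun x hx => by
    have := hx.map (algebraMap P Λ)
    rw [← IsScalarTower.algebraMap_apply] at this
    exact (isUnit_map_iff (algebraMap R Λ) x).mp this⟩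
  let ι : ResidueField P →ₐ[ResidueField R] ResidueField Λ :=
    { ResidueField.map (algebraMap P Λ) with
      commutes' := fun r => by
        obtain ⟨r, rfl⟩ := Ideal.Quotient.mk_surjective r
        change residue Λ (algebraMap P Λ (algebraMap R P r)) = residue Λ (algebraMap R Λ r)
        rw [← IsScalarTower.algebraMap_apply] }
  haveI : Algebra.IsGeometricallyReduced (ResidueField R) (ResidueField P) :=
    Algebra.IsGeometricallyReduced.of_injective ι ι.toRingHom.injective
  haveI : Algebra.FormallySmooth (ResidueField R) (ResidueField P) := S2451.result.mpr inferInstance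
  obtain ⟨κ, y, s, bP, hbP, hys, hJ⟩ := exists_coords π hπ p
  -- the target
  letI : Algebra A' Λ := φ'.toRingHom.toAlgebra
  haveI : IsScalarTower A A' Λ := IsScalarTower.of_algebraMap_eq fun x => (φ'.commutes x).symm
  haveI : IsScalarTower R A' Λ := IsScalarTower.of_algebraMap_eq fun x => by
    rw [IsScalarTower.algebraMap_apply R A A', ← IsScalarTower.algebraMap_apply A A' Λ, ← IsScalarTower.algebraMap_apply]
  let w : A' →ₐ[R] B := A'.val.restrictScalars R
  have hwu : IsUnit (algebraMap A B a) := IsLocalization.Away.algebraMap_isUnit a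
  have ht : ∀ x ∈ p, ∃ t : A', t * algebraMap A A' a = algebraMap A A' x := fun x hx => by
    refine ⟨⟨IsLocalization.mk' B x ⟨a, Submonoid.mem_powers a⟩, Algebra.subset_adjoin ⟨x, hx, rfl⟩⟩, ?_⟩
    exact Subtype.ext (IsLocalization.mk'_spec B x ⟨a, Submonoid.mem_powers a⟩)
  have hcancel : ∀ t t' : A', t * algebraMap A A' a = t' * algebraMap A A' a → t = t' := fun t t' h =>
    Subtype.ext (hwu.mul_right_cancel (congrArg Subtype.val h))
  -- finite type
  haveI : Algebra.FiniteType R A' := by
    obtain ⟨G, hG⟩ := (IsNoetherian.noetherian p : p.FG)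
    haveI : Algebra.FiniteType A A' := by
      refine (Subalgebra.fg_iff_finiteType A').mp ⟨G.image fun x => IsLocalization.mk' B x ⟨a, Submonoid.mem_powers a⟩, ?_⟩
      refine le_antisymm (Algebra.adjoin_le ?_) (Algebra.adjoin_le ?_)
      · intro q hq
        obtain ⟨x, hx, rfl⟩ := Finset.mem_image.mp hq
        exact Algebra.subset_adjoin ⟨x, hG ▸ Ideal.subset_span hx, rfl⟩
      · rintro _ ⟨x, hx, rfl⟩
        rw [← hG] at hx
        change IsLocalization.mk' B x ⟨a, Submonoid.mem_powers a⟩ ∈
          Algebra.adjoin A (↑(G.image fun x => IsLocalization.mk' B x ⟨a, Submonoid.mem_powers a⟩) : Set B)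
        induction hx using Submodule.span_induction with
        | mem x hx => exact Algebra.subset_adjoin (Finset.mem_image_of_mem _ hx)
        | zero => rw [IsLocalization.mk'_zero]; exact zero_mem _
        | add x z _ _ hx hz =>
          rw [IsLocalization.mk'_eq_mul_mk'_one] at hx hz ⊢
          rw [map_add, add_mul]
          exact add_mem hx hz
        | smul r x _ hx =>
          rw [IsLocalization.mk'_eq_mul_mk'_one] at hx ⊢
          rw [smul_eq_mul, map_mul, mul_assoc, ← Algebra.smul_def]
          exact Subalgebra.smul_mem _ hx r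
    exact Algebra.FiniteType.trans (inferInstance : Algebra.FiniteType R A) inferInstance
  -- the kernel and smoothness there
  haveI : (RingHom.ker (algebraMap A' Λ)).IsPrime := RingHom.ker_isPrime _
  have hq : Algebra.IsSmoothAt R (RingHom.ker (algebraMap A' Λ)) := by
    let χ : B →+* L := Localization.awayMap (algebraMap A Λ) a
    let Q : Ideal B := RingHom.ker χ
    haveI : Q.IsPrime := RingHom.ker_isPrime _
    haveI hloc : IsLocalization (Submonoid.powers (algebraMap A A' a)) B := by
      refine (isLocalization_iff _ _).mpr ⟨?_, ?_, ?_⟩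
      · rintro ⟨_, n, rfl⟩
        rw [map_pow]
        exact hwu.pow n
      · intro z
        obtain ⟨⟨x, m, n, rfl⟩, h⟩ := IsLocalization.surj (Submonoid.powers a) z
        refine ⟨(algebraMap A A' x, ⟨_, n, rfl⟩), ?_⟩
        change z * algebraMap A' B (algebraMap A A' a ^ n) = algebraMap A' B (algebraMap A A' x)
        rw [← map_pow, ← IsScalarTower.algebraMap_apply A A' B, ← IsScalarTower.algebraMap_apply A A' B]
        exact h
      · intro x z h
        exact ⟨1, by rw [Subtype.ext (h : x.val = z.val)]⟩
    have hQ' : Q.comap (algebraMap A' B) = RingHom.ker (algebraMap A' Λ) := by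
      ext x
      refine ⟨fun h => ?_, fun h => ?_⟩
      · exact hΛL ((hφ' x).trans (h.trans (map_zero _).symm))
      · change χ x.val = 0
        rw [← hφ', show φ' x = 0 from h, map_zero]
    have hQA : Q.comap (algebraMap A B) ≤ p := fun x hx => by
      have hx' : algebraMap Λ L (algebraMap A Λ x) = 0 := by
        change χ (algebraMap A B x) = 0 at hx
        rw [← hx]
        exact (IsLocalization.map_eq _ x).symm
      change algebraMap A Λ x ∈ maximalIdeal Λ
      rw [hΛL (hx'.trans (map_zero _).symm)]
      exact zero_mem _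
    let T := Localization.AtPrime Q
    haveI : IsLocalization.AtPrime T (Q.comap (algebraMap A B)) :=
      IsLocalization.isLocalization_isLocalization_atPrime_isLocalization (Submonoid.powers a) T Q
    haveI hT' : IsLocalization.AtPrime T (Q.comap (algebraMap A' B)) :=
      IsLocalization.isLocalization_isLocalization_atPrime_isLocalization (Submonoid.powers (algebraMap A A' a)) T Q
    have hAQ : Algebra.IsSmoothAt R (Q.comap (algebraMap A B)) := by
      haveI : Algebra.FinitePresentation R A := Algebra.FinitePresentation.of_finiteType.mp inferInstance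
      obtain ⟨g, hg, hgs⟩ := Algebra.IsSmoothAt.exists_notMem_smooth R p
      exact (Algebra.basicOpen_subset_smoothLocus_iff_smooth.mpr hgs)
        (show (⟨Q.comap (algebraMap A B), inferInstance⟩ : PrimeSpectrum A) ∈ (PrimeSpectrum.basicOpen g : Set (PrimeSpectrum A))
          from fun hgQ => hg (hQA hgQ))
    haveI : Algebra.FormallySmooth R T := by
      haveI := hAQ
      exact Algebra.FormallySmooth.of_equiv
        ((IsLocalization.algEquiv (Q.comap (algebraMap A B)).primeCompl
          (Localization.AtPrime (Q.comap (algebraMap A B))) T).restrictScalars R)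
    haveI : IsLocalization.AtPrime T (RingHom.ker (algebraMap A' Λ)) := by
      convert hT' using 1
      simp only [hQ']
    exact Algebra.FormallySmooth.of_equiv
      ((IsLocalization.algEquiv (RingHom.ker (algebraMap A' Λ)).primeCompl T
        (Localization.AtPrime (RingHom.ker (algebraMap A' Λ)))).restrictScalars R)
  -- generators
  choose t htk using fun k : s => ht (y k) (hys k k.2)
  let z : κ → A' := fun k => if h : k ∈ s then t ⟨k, h⟩ else algebraMap A A' (y k)
  let c : κ → R := fun k => if k ∈ s then π else 1
  have hz : ∀ k, algebraMap R A' (c k) * z k = algebraMap A A' (y k) := fun k => by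
    simp only [z, c]
    split
    · rw [mul_comm, IsScalarTower.algebraMap_apply R A A', htk]
    · rw [map_one, one_mul]
  let M := Λ ⊗[A'] Ω[A'⁄R]
  let δ : A' → M := fun x => TensorProduct.mk A' Λ Ω[A'⁄R] 1 (KaehlerDifferential.D R A' x)
  let S : Submodule Λ M := Submodule.span Λ (Set.range fun k => δ (z k))
  have hδmul : ∀ x x', δ (x * x') = algebraMap A' Λ x • δ x' + algebraMap A' Λ x' • δ x := fun x x' => by
    simp only [δ, Derivation.leibniz, map_add, map_smul, algebraMap_smul]
  let η : Ω[A⁄R] →ₗ[A] M := ((TensorProduct.mk A' Λ Ω[A'⁄R] 1).restrictScalars A).comp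
    (KaehlerDifferential.map R R A A')
  have hηD : ∀ x, η (KaehlerDifferential.D R A x) = δ (algebraMap A A' x) := fun x => by
    simp only [η, δ, LinearMap.comp_apply, KaehlerDifferential.map_D, LinearMap.restrictScalars_apply]
  let f : Ω[A⁄R] →ₗ[A] Ω[P⁄R] := KaehlerDifferential.map R R A P
  have hMu : ∀ g : p.primeCompl, IsUnit (algebraMap A (Module.End A M) g) := fun g => by
    obtain ⟨v, hv⟩ : IsUnit (algebraMap A Λ g) := IsLocalRing.notMem_maximalIdeal.mp g.2
    rw [Module.End.isUnit_iff]
    refine Function.bijective_iff_has_inverse.mpr ⟨fun m => (↑v⁻¹ : Λ) • m, fun m => ?_, fun m => ?_⟩ <;>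
      simp only [Module.algebraMap_end_apply, ← algebraMap_smul Λ (g : A), ← hv, smul_smul, Units.inv_mul,
        Units.mul_inv, one_smul]
  let ηP : Ω[P⁄R] →ₗ[A] M := IsLocalizedModule.lift p.primeCompl f η hMu
  let ηP' : Ω[P⁄R] →ₗ[P] M := ηP.extendScalarsOfIsLocalization p.primeCompl P
  have hηP : ∀ x, ηP' (KaehlerDifferential.D R P (algebraMap A P x)) = δ (algebraMap A A' x) := fun x => by
    change ηP _ = _
    rw [← KaehlerDifferential.map_D R R A P, ← hηD]
    exact LinearMap.congr_fun (IsLocalizedModule.lift_comp p.primeCompl f η hMu) _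
  have hA : ∀ x : A, δ (algebraMap A A' x) ∈ S := fun x => by
    have hle : Submodule.span P (Set.range bP) ≤ (S.restrictScalars P).comap ηP' := by
      refine Submodule.span_le.mpr ?_
      rintro _ ⟨k, rfl⟩
      change ηP' (bP k) ∈ S
      rw [hbP, hηP, ← hz, hδmul]
      refine add_mem (S.smul_mem _ (Submodule.subset_span ⟨k, rfl⟩)) (S.smul_mem _ ?_)
      rw [show δ (algebraMap R A' (c k)) = 0 by simp only [δ, Derivation.map_algebraMap, map_zero]]
      exact zero_mem _
    rw [bP.span_eq] at hle
    rw [← hηP]
    exact hle (Submodule.mem_top (x := KaehlerDifferential.D R P (algebraMap A P x)))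
  let S' : Subalgebra A A' :=
    { carrier := {x | δ x ∈ S}
      mul_mem' := fun {x x'} hx hx' => by
        change δ (x * x') ∈ S
        rw [hδmul]
        exact add_mem (S.smul_mem _ hx') (S.smul_mem _ hx)
      add_mem' := fun {x x'} hx hx' => by
        change δ (x + x') ∈ S
        simp only [δ, map_add]
        exact add_mem hx hx'
      algebraMap_mem' := hA }
  have htS : ∀ x ∈ p, ∀ v : A', v * algebraMap A A' a = algebraMap A A' x → v ∈ S' := by
    intro x hx v hv
    obtain ⟨g, hg, hgx⟩ := hJ x hx
    have : ∀ e ∈ Ideal.span {a} ⊔ Ideal.span (y '' s), ∃ u ∈ S', u * algebraMap A A' a = algebraMap A A' e := by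
      intro e he
      rw [← Ideal.span_union] at he
      induction he using Submodule.span_induction with
      | mem e he =>
        rcases he with rfl | ⟨k, hk, rfl⟩
        · exact ⟨1, one_mem _, one_mul _⟩
        · refine ⟨t ⟨k, hk⟩, ?_, htk ⟨k, hk⟩⟩
          change δ (t ⟨k, hk⟩) ∈ S
          refine Submodule.subset_span ⟨k, ?_⟩
          simp only [z, dif_pos hk]
      | zero => exact ⟨0, zero_mem _, by rw [zero_mul, map_zero]⟩
      | add e e' _ _ he he' =>
        obtain ⟨u, hu, hue⟩ := he
        obtain ⟨u', hu', hue'⟩ := he'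
        exact ⟨u + u', add_mem hu hu', by rw [add_mul, hue, hue', map_add]⟩
      | smul r e _ he =>
        obtain ⟨u, hu, hue⟩ := he
        exact ⟨algebraMap A A' r * u, mul_mem (S'.algebraMap_mem r) hu,
          by rw [mul_assoc, hue, smul_eq_mul, map_mul]⟩
    obtain ⟨u, hu, hue⟩ := this _ hgx
    have huv : algebraMap A A' g * v = u := hcancel _ _ (by rw [mul_assoc, hv, hue, map_mul])
    have hu' : δ u ∈ S := hu
    rw [← huv, hδmul, ← IsScalarTower.algebraMap_apply] at hu'
    have h2 := (Submodule.add_mem_iff_left S (S.smul_mem _ (hA g))).mp hu'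
    exact (Submodule.smul_mem_iff_of_isUnit _ (IsLocalRing.notMem_maximalIdeal.mp hg)).mp h2
  have hgen : A' ≤ S'.map A'.val := by
    refine Algebra.adjoin_le ?_
    rintro _ ⟨e, he, rfl⟩
    obtain ⟨v, hv⟩ := ht e he
    refine ⟨v, htS e he v hv, ?_⟩
    refine hwu.mul_right_cancel ?_
    exact (congrArg Subtype.val hv).trans (IsLocalization.mk'_spec B e ⟨a, Submonoid.mem_powers a⟩).symm
  have hall : ∀ x : A', δ x ∈ S := fun x => by
    obtain ⟨x', hx', e⟩ := hgen x.2
    rw [← Subtype.ext (show (x' : B) = x from e)]
    exact hx'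
  have hS : ⊤ ≤ S := by
    rintro m -
    induction m using TensorProduct.induction_on with
    | zero => exact zero_mem _
    | tmul l ω =>
      have hω : ω ∈ Submodule.span A' (Set.range (KaehlerDifferential.D R A')) := by
        rw [KaehlerDifferential.span_range_derivation]; trivial
      rw [show l ⊗ₜ[A'] ω = l • TensorProduct.mk A' Λ Ω[A'⁄R] 1 ω by simp [smul_tmul']]
      refine S.smul_mem _ ?_
      induction hω using Submodule.span_induction with
      | mem x hx => obtain ⟨q, rfl⟩ := hx; exact hall q
      | zero => rw [map_zero]; exact zero_mem _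
      | add _ _ _ _ h h' => rw [map_add]; exact add_mem h h'
      | smul r x _ h => rw [map_smul, ← algebraMap_smul Λ r]; exact S.smul_mem _ h
    | add m m' h h' => exact add_mem h h'
  -- independence
  let χR : B →ₐ[R] L :=
    { Localization.awayMap (algebraMap A Λ) a with
      commutes' := fun r => by
        rw [IsScalarTower.algebraMap_apply R A B, IsScalarTower.algebraMap_apply R Λ L,
          IsScalarTower.algebraMap_apply R A Λ]
        exact IsLocalization.map_eq _ _ }
  have hχ : ∀ x, χR (algebraMap A B x) = algebraMap Λ L (algebraMap A Λ x) := fun x => by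
    refine IsLocalization.map_eq (T := Submonoid.powers (algebraMap A Λ a)) ?_ x
    rintro _ ⟨n, rfl⟩
    exact ⟨n, (map_pow _ _ _).symm⟩
  have hν : ∀ j : κ, ∃ ν : M →ₗ[Λ] L, ∀ k, algebraMap R L (c k) * ν (δ (z k)) = if k = j then 1 else 0 := by
    intro j
    let d : A →ₗ[R] L := ((IsScalarTower.toAlgHom R P L).toLinearMap.comp ((bP.coord j).restrictScalars R)).comp
      ((KaehlerDifferential.D R P).toLinearMap.comp (IsScalarTower.toAlgHom R A P).toLinearMap)
    have hd : ∀ x x', d (x * x') = χR (algebraMap A B x) * d x' + χR (algebraMap A B x') * d x := fun x x' => by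
      simp only [d, LinearMap.comp_apply, AlgHom.toLinearMap_apply, Derivation.coeFn_coe, map_mul,
        Derivation.leibniz, map_add, map_smul, LinearMap.coe_restrictScalars, IsScalarTower.coe_toAlgHom',
        smul_eq_mul, hχ, IsScalarTower.algebraMap_apply A P Λ, IsScalarTower.algebraMap_apply P Λ L]
    obtain ⟨e, he, hed⟩ := exists_ext_derivation a χR d hd
    let E : Derivation R A' L := Derivation.mk' (e.comp w.toLinearMap) fun x x' => by
      simp only [LinearMap.comp_apply, AlgHom.toLinearMap_apply, map_mul, he, Algebra.smul_def]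
      rw [show χR (w x) = algebraMap A' L x from (hφ' x).symm, show χR (w x') = algebraMap A' L x' from (hφ' x').symm]
    refine ⟨(E.liftKaehlerDifferential).liftBaseChange Λ, fun k => ?_⟩
    rw [show δ (z k) = (1 : Λ) ⊗ₜ[A'] KaehlerDifferential.D R A' (z k) from rfl, LinearMap.liftBaseChange_tmul, one_smul,
      Derivation.liftKaehlerDifferential_comp_D, ← Algebra.smul_def, ← Derivation.map_smul, Algebra.smul_def, hz]
    change e (algebraMap A B (y k)) = _
    rw [hed]
    change algebraMap P L (bP.coord j (KaehlerDifferential.D R P (algebraMap A P (y k)))) = _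
    rw [← hbP, Module.Basis.coord_apply, Module.Basis.repr_self, Finsupp.single_apply]
    split <;> simp
  choose ν hν using hν
  have hli : LinearIndependent Λ fun k => δ (z k) := by
    rw [linearIndependent_iff']
    intro F r hr j hj
    have h1 := congrArg (ν j) hr
    rw [map_sum, map_zero] at h1
    have h2 := congrArg (fun l => algebraMap R L (c j) * l) h1
    simp only [map_smul, Finset.mul_sum, mul_zero, Algebra.smul_def] at h2
    have hne : ∀ k, algebraMap R L (c k) ≠ 0 := fun k h => by
      rw [IsScalarTower.algebraMap_apply R Λ L] at h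
      have := FaithfulSMul.algebraMap_injective R Λ ((hΛL (h.trans (map_zero _).symm)).trans (map_zero _).symm)
      simp only [c] at this
      split at this
      · exact hπ0 this
      · exact one_ne_zero this
    have h3 : ∀ k, k ≠ j → ν j (δ (z k)) = 0 := fun k hk => by
      have := hν j k
      rw [if_neg hk] at this
      exact (mul_eq_zero.mp this).resolve_left (hne k)
    rw [Finset.sum_eq_single j (fun k _ hk => by simp [h3 k hk]) (fun h => absurd hj h),
      ← mul_assoc, mul_comm (algebraMap R L (c j)), mul_assoc, hν j j, if_pos rfl, mul_one] at h2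
    exact hΛL (h2.trans (map_zero _).symm)
  haveI : Module.Free Λ M := Module.Free.of_basis (Module.Basis.mk hli hS)
  exact Groth.Agent.DvrSmooth.isSmoothAt_of_free hq inferInstance

end Groth.Agent.NeronBlow
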